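import Mathlib.RingTheory.Ideal.Operations
import Mathlib.RingTheory.MvPolynomial.Homogeneous
import Mathlib.RingTheory.Polynomial.Basic
import Mathlib.Data.Fin.Tuple.NatAntidiagonal

/-!
# Coefficient ideals for splittings of `I^c`
-/

set_option autoImplicit false

universe u

namespace Groth.Agent.H2.FormalLimit.Coeff

variable {A : Type u} [CommRing A] {I : Ideal A} {c : ℕ}

theorem apply_mem (φ : ↥(I ^ c) →ₗ[A] A) (k : ℕ) {g : A} (hg : g ∈ I ^ (k + c)) (h : g ∈ I ^ c) :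
    φ ⟨g, h⟩ ∈ I ^ k := by
  rw [pow_add] at hg
  revert h
  induction hg using Submodule.mul_induction_on' with
  | mem_mul_mem a ha b hb =>
    intro h
    rw [show (⟨a * b, h⟩ : ↥(I ^ c)) = a • ⟨b, hb⟩ from Subtype.ext (smul_eq_mul a b).symm, map_smul,
      smul_eq_mul]
    exact Ideal.mul_mem_right _ _ ha
  | add x hx y hy ihx ihy =>
    intro h
    have hx' : x ∈ I ^ c := (Ideal.mul_le_right : I ^ k * I ^ c ≤ I ^ c) hx
    have hy' : y ∈ I ^ c := (Ideal.mul_le_right : I ^ k * I ^ c ≤ I ^ c) hy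
    rw [show (⟨x + y, h⟩ : ↥(I ^ c)) = ⟨x, hx'⟩ + ⟨y, hy'⟩ from rfl, map_add]
    exact Ideal.add_mem _ (ihx hx') (ihy hy')

open MvPolynomial

variable {r : ℕ} {f : Fin r → A} {d : ℕ} {Φ : ℕ → A → MvPolynomial (Fin r) A}

theorem eval_eq_self (hadd : ∀ n, ∀ g ∈ I ^ (n * d), ∀ h ∈ I ^ (n * d), Φ n (g + h) = Φ n g + Φ n h)
    (hmul : ∀ n m, ∀ g ∈ I ^ (n * d), ∀ h ∈ I ^ (m * d), Φ (n + m) (g * h) = Φ n g * Φ m h)
    (hzero : ∀ a, Φ 0 a = C a) (hone : ∀ g ∈ I ^ d, eval f (Φ 1 g) = g) :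
    ∀ m, ∀ g ∈ I ^ (m * d), eval f (Φ m g) = g := fun m => by
  induction m with
  | zero => intro g _; rw [hzero, eval_C]
  | succ m ih =>
    intro g hg
    rw [Nat.succ_mul, pow_add] at hg
    induction hg using Submodule.mul_induction_on' with
    | mem_mul_mem a ha b hb =>
      rw [hmul m 1 a ha b (by rwa [one_mul]), map_mul, ih a ha, hone b hb]
    | add x hx y hy ihx ihy =>
      rw [hadd (m + 1) x (by rwa [Nat.succ_mul, pow_add]) y (by rwa [Nat.succ_mul, pow_add]), map_add,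
        ihx, ihy]

theorem coeff_mem (hadd : ∀ n, ∀ g ∈ I ^ (n * d), ∀ h ∈ I ^ (n * d), Φ n (g + h) = Φ n g + Φ n h)
    (hmul : ∀ n m, ∀ g ∈ I ^ (n * d), ∀ h ∈ I ^ (m * d), Φ (n + m) (g * h) = Φ n g * Φ m h)
    {k : ℕ} (hone : ∀ g ∈ I ^ d, Φ 1 g ∈ Ideal.map C (I ^ k)) :
    ∀ m, ∀ g ∈ I ^ ((m + 1) * d), ∀ e, coeff e (Φ (m + 1) g) ∈ I ^ k := by
  intro m g hg
  refine mem_map_C_iff.1 ?_
  rw [Nat.succ_mul, pow_add] at hg
  induction hg using Submodule.mul_induction_on' with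
  | mem_mul_mem a ha b hb =>
    rw [hmul m 1 a ha b (by rwa [one_mul])]
    exact Ideal.mul_mem_left _ _ (hone b hb)
  | add x hx y hy ihx ihy =>
    rw [hadd (m + 1) x (by rwa [Nat.succ_mul, pow_add]) y (by rwa [Nat.succ_mul, pow_add])]
    exact Ideal.add_mem _ ihx ihy

end Groth.Agent.H2.FormalLimit.Coeff
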