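import Groth.Agent.H2.FormalLimit.TorsFree
import Groth.Agent.H78.Formal.Principal
import Groth.Agent.H78.FormalFun.Basic
import Groth.Agent.Lib.Curves.LES
import Mathlib.CategoryTheory.Abelian.Images

/-!
# Maps out of `I^N M` given by coefficient functions on `I^N`
-/

set_option autoImplicit false
set_option linter.style.haveILetI false
set_option linter.unusedSectionVars false

universe u

open CategoryTheory Limits AlgebraicGeometry Opposite TopologicalSpace

namespace Groth.Agent.H2.FormalLimit.PowMap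

open Groth.Agent.H78.Formal Groth.Agent.H78.Formal.Sections
open Groth.Agent.H78.Formal.Principal (smulMod_mul)
open Groth.Agent.H78.FormalFun.Basic

variable {A : Type u} [CommRing A] {X : Scheme.{u}} [X.Over (Spec (CommRingCat.of A))]

/-- Torsion maps which die modulo `I^k` vanish. -/
def TF (I : Ideal A) (k : ℕ) (M : X.Modules) : Prop :=
  ∀ (c : ℕ) {Z : X.Modules} (κ : Z ⟶ M),
    (∀ a ∈ I ^ c, κ ≫ _root_.Formal.smulMod A M a = 0) → κ ≫ _root_.Formal.modPowπ I k M = 0 → κ = 0

/-- The generators of `I^n M`. -/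
noncomputable def gens (I : Ideal A) (n : ℕ) (M : X.Modules) :
    (∐ fun _ : ↥(I ^ n) => M) ⟶ Formal2.idealPowMod I n M :=
  Abelian.factorThruImage (_root_.Formal.smulFamily (I ^ n) M)

instance gens_epi (I : Ideal A) (n : ℕ) (M : X.Modules) : Epi (gens I n M) :=
  inferInstanceAs (Epi (Abelian.factorThruImage _))

theorem gens_ι (I : Ideal A) (n : ℕ) (M : X.Modules) :
    gens I n M ≫ Formal2.idealPowModι I n M = _root_.Formal.smulFamily (I ^ n) M :=
  Abelian.image.fac _

theorem ι_gens (I : Ideal A) (n : ℕ) (M : X.Modules) (g : ↥(I ^ n)) :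
    (Sigma.ι (fun _ : ↥(I ^ n) => M) g ≫ gens I n M) ≫ Formal2.idealPowModι I n M =
      _root_.Formal.smulMod A M (g : A) := by
  rw [Category.assoc, gens_ι]
  simp [_root_.Formal.smulFamily]

theorem smulMod_sum {α : Type*} (s : Finset α) (a : α → A) (M : X.Modules) :
    _root_.Formal.smulMod A M (∑ i ∈ s, a i) = ∑ i ∈ s, _root_.Formal.smulMod A M (a i) :=
  map_sum (AddMonoidHom.mk' (fun a => _root_.Formal.smulMod A M a) fun a b => smulMod_add M a b) a s

theorem smulMod_comm (M : X.Modules) (a b : A) :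
    _root_.Formal.smulMod A M a ≫ _root_.Formal.smulMod A M b =
      _root_.Formal.smulMod A M b ≫ _root_.Formal.smulMod A M a := by
  rw [← smulMod_mul, ← smulMod_mul, mul_comm]

variable {I : Ideal A} {k : ℕ} {M : X.Modules} {n : ℕ}

/-- The scalar family `g ↦ C g` descends to `I^n M`. -/
theorem exists_component (hTF : TF I k M) (C : A → A)
    (hrel : ∀ g ∈ I ^ n, ∀ h ∈ I ^ n, h * C g = g * C h)
    (hk : (∀ g ∈ I ^ n, C g ∈ I ^ k) ∨ ∀ g ∈ I ^ n, C g = g) :
    ∃ ψ : Formal2.idealPowMod I n M ⟶ M,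
      ∀ g : ↥(I ^ n), (Sigma.ι (fun _ : ↥(I ^ n) => M) g ≫ gens I n M) ≫ ψ =
        _root_.Formal.smulMod A M (C g) := by
  let P : (∐ fun _ : ↥(I ^ n) => M) ⟶ M := Sigma.desc fun g : ↥(I ^ n) => _root_.Formal.smulMod A M (C g)
  have hq : kernel.ι (gens I n M) ≫ _root_.Formal.smulFamily (I ^ n) M = 0 := by
    rw [← gens_ι, kernel.condition_assoc, zero_comp]
  have hker : kernel.ι (gens I n M) ≫ P = 0 := by
    rcases hk with hk | hk
    · refine hTF n _ (fun h hh => ?_) ?_
      · have e : P ≫ _root_.Formal.smulMod A M h =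
            _root_.Formal.smulFamily (I ^ n) M ≫ _root_.Formal.smulMod A M (C h) := by
          apply Sigma.hom_ext
          intro g
          simp only [P, _root_.Formal.smulFamily, Sigma.ι_desc_assoc]
          rw [← smulMod_mul, ← smulMod_mul, mul_comm, hrel g g.2 h hh]
        rw [Category.assoc, e, ← Category.assoc, hq, zero_comp]
      · have e : P ≫ _root_.Formal.modPowπ I k M = 0 := by
          apply Sigma.hom_ext
          intro g
          rw [Sigma.ι_desc_assoc, comp_zero]
          exact smulMod_π (I ^ k) M (hk g g.2)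
        rw [Category.assoc, e, comp_zero]
    · have e : P = _root_.Formal.smulFamily (I ^ n) M := by
        apply Sigma.hom_ext
        intro g
        simp only [P, _root_.Formal.smulFamily, Sigma.ι_desc]
        rw [hk g g.2]
      rw [e, hq]
  refine ⟨Abelian.epiDesc (gens I n M) P hker, fun g => ?_⟩
  rw [Category.assoc, Abelian.comp_epiDesc, Sigma.ι_desc]

theorem hom_ext_gens {N : X.Modules} {ψ ψ' : Formal2.idealPowMod I n M ⟶ N}
    (h : ∀ g : ↥(I ^ n), (Sigma.ι (fun _ : ↥(I ^ n) => M) g ≫ gens I n M) ≫ ψ =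
      (Sigma.ι (fun _ : ↥(I ^ n) => M) g ≫ gens I n M) ≫ ψ') : ψ = ψ' := by
  rw [← cancel_epi (gens I n M)]
  apply Sigma.hom_ext
  intro g
  rw [← Category.assoc, ← Category.assoc, h g]

/-- A coefficient family with values in `I^m` lands in `I^m M`. -/
theorem component_π (C : A → A) {m : ℕ} (hm : ∀ g ∈ I ^ n, C g ∈ I ^ m)
    (ψ : Formal2.idealPowMod I n M ⟶ M)
    (hψ : ∀ g : ↥(I ^ n), (Sigma.ι (fun _ : ↥(I ^ n) => M) g ≫ gens I n M) ≫ ψ =
      _root_.Formal.smulMod A M (C g)) : ψ ≫ _root_.Formal.modPowπ I m M = 0 := by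
  refine hom_ext_gens fun g => ?_
  rw [← Category.assoc, hψ, comp_zero]
  exact smulMod_π (I ^ m) M (hm g g.2)

variable [IsNoetherian X] [IsNoetherianRing A] {G : ℕᵒᵖ ⥤ X.Modules}

theorem isQCohFormal (hG : _root_.Formal.IsCohFormal I G) : Formal2.IsQCohFormal I G :=
  ⟨fun n => (hG.1 n).1, hG.2.1, hG.2.2⟩

/-- The limit of a coherent formal module satisfies `TF`. -/
theorem exists_TF (hG : _root_.Formal.IsCohFormal I G) : ∃ k, TF I k (limit G) := by
  obtain ⟨k, hk⟩ := TorsFree.exists_torsFree_hom hG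
  refine ⟨k + 1, fun c Z κ ha h0 => hk c κ ha ?_⟩
  obtain ⟨h, hiso⟩ := LimSect.exists_isIso_desc (IsNoetherian.noetherian I) (isQCohFormal hG) k
  rw [← cokernel.π_desc _ (limit.π G (op k)) h, ← Category.assoc]
  rw [show κ ≫ cokernel.π (_root_.Formal.smulFamily (I ^ (k + 1)) (limit G)) = 0 from h0, zero_comp]

end Groth.Agent.H2.FormalLimit.PowMap
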