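import Groth.Agent.H78.Formal.Uniform
import Groth.Agent.H78.Formal.LimSect
import Mathlib.RingTheory.Noetherian.Basic

/-!
# Torsion sections of the limit of a coherent formal module are seen at a bounded level
-/

set_option autoImplicit false
set_option linter.style.haveILetI false
set_option linter.unusedSectionVars false

universe u v

open CategoryTheory Limits AlgebraicGeometry Opposite TopologicalSpace

namespace Groth.Agent.H2.FormalLimit.TorsFree

open Groth.Agent.Lib Groth.Agent.Lib.CohBasics.Affine Groth.Agent.H78.Formal Groth.Agent.H78.Formal.Sections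
  Groth.Agent.H78.Formal.Sys Groth.Agent.H78.Formal.Elem Groth.Agent.H78.Formal.Uniform
  Groth.Agent.Lib.QCoh.Localizing

section Algebra

variable {B : Type u} [CommRing B] [IsNoetherianRing B] {I : Ideal B}
variable {M : ℕ → Type v} [∀ n, AddCommGroup (M n)] [∀ n, Module B (M n)]
variable {f : ∀ n, M (n + 1) →ₗ[B] M n}

/-- Torsion compatible sequences of any order are determined by one bounded component. -/
theorem exists_torsion_bound_all (hM : Model.IsFormalTower I f) :
    ∃ k : ℕ, ∀ (c : ℕ) (z : ∀ m, M m), (∀ m, f m (z (m + 1)) = z m) →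
      (∀ m, ∀ a ∈ I ^ c, a • z m = 0) → z k = 0 → ∀ m, z m = 0 := by
  obtain ⟨mod, F, hmod, hF, hfin, hker⟩ := Model.exists_complete hM
  letI := mod
  haveI : IsNoetherian (AdicCompletion I B) (Tower.limMod F) := isNoetherian_of_isNoetherianRing_of_finite _ _
  let T : ℕ → Submodule (AdicCompletion I B) (Tower.limMod F) := fun c =>
    { carrier := {z | ∀ a ∈ I ^ c, algebraMap B (AdicCompletion I B) a • z = 0}
      add_mem' := fun hx hy a ha => by rw [smul_add, hx a ha, hy a ha, add_zero]
      zero_mem' := fun a ha => smul_zero _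
      smul_mem' := fun r x hx a ha => by rw [smul_comm, hx a ha, smul_zero] }
  obtain ⟨c₀, hc₀⟩ := monotone_stabilizes_iff_noetherian.2
    (inferInstance : IsNoetherian (AdicCompletion I B) (Tower.limMod F))
    ⟨T, fun a b hab z hz r hr => hz r (Ideal.pow_le_pow_right hab hr)⟩
  obtain ⟨k, hk⟩ := Model.exists_torsion_bound hM c₀
  refine ⟨k, fun c z hz htor hzero => hk z hz (fun m a ha => ?_) hzero⟩
  let z₁ : Tower.limMod F := ⟨z, fun m => (hF m _).trans (hz m)⟩
  have hsm : ∀ (a : B) (j : ℕ), (algebraMap B (AdicCompletion I B) a • z₁).1 j = a • z j := fun a j => by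
    have := Model.completion_algebraMap_smul I (hM.killed j) a (z j)
    rw [← hmod] at this
    exact this
  have h1 : z₁ ∈ T (max c c₀) := fun a ha => Subtype.ext (funext fun j =>
    (hsm a j).trans (htor j a (Ideal.pow_le_pow_right (le_max_left _ _) ha)))
  have h2 : z₁ ∈ T c₀ := (hc₀ (max c c₀) (le_max_right _ _)).ge h1
  exact (hsm a m).symm.trans (congrArg (fun x : Tower.limMod F => x.1 m) (h2 a ha))

/-- The tower of finite powers. -/
theorem isFormalTower_pi (hM : Model.IsFormalTower I f) (ι : Type) [Fintype ι] [DecidableEq ι] :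
    Model.IsFormalTower (M := fun n => ι → M n) I (fun n => (f n).compLeft ι) := by
  have hmem : ∀ (n : ℕ) (J : Ideal B) (x : ι → M n), (∀ i, x i ∈ J • (⊤ : Submodule B (M n))) →
      x ∈ J • (⊤ : Submodule B (ι → M n)) := fun n J x hx => by
    rw [← Finset.univ_sum_single x]
    refine Submodule.sum_mem _ fun i _ => ?_
    have h : (J • (⊤ : Submodule B (M n))).map (LinearMap.single B (fun _ : ι => M n) i) ≤
        J • (⊤ : Submodule B (ι → M n)) := by
      rw [Submodule.map_smul'']
      exact Submodule.smul_mono le_rfl le_top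
    exact h ⟨x i, hx i, rfl⟩
  refine ⟨fun n => ?_, fun n y => ?_, fun n => ?_, ?_⟩
  · rw [← le_bot_iff, Submodule.smul_le]
    intro a ha x _
    rw [Submodule.mem_bot]
    funext i
    show a • x i = 0
    rw [← Submodule.mem_bot B, ← hM.killed n]
    exact Submodule.smul_mem_smul ha trivial
  · choose g hg using fun i => hM.surjective n (y i)
    exact ⟨g, funext hg⟩
  · refine le_antisymm (fun x hx => hmem _ _ x fun i => ?_) (Submodule.smul_le.2 fun a ha x _ => ?_)
    · rw [← hM.ker n]
      exact congrFun hx i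
    · rw [LinearMap.mem_ker]
      funext i
      show f n (a • x i) = 0
      rw [← LinearMap.mem_ker, hM.ker n]
      exact Submodule.smul_mem_smul ha trivial
  · haveI := hM.finite
    exact Module.Finite.pi

/-- A torsion element at a high level that dies at level `k` dies at all lower levels. -/
theorem exists_level (hM : Model.IsFormalTower I f) :
    ∃ k : ℕ, ∀ {r : ℕ} (g : Fin r → B) (c : ℕ), I ^ c ≤ Ideal.span (Set.range g) →
      ∃ d : ℕ, ∀ (n : ℕ), k ≤ n → ∀ z : ∀ m, M m, (∀ m, f m (z (m + 1)) = z m) →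
        (∀ i, g i • z (n + d) = 0) → z k = 0 → z n = 0 := by
  obtain ⟨k, hk⟩ := exists_torsion_bound_all hM
  refine ⟨k, fun {r} g c hc => ?_⟩
  obtain ⟨d, hd⟩ := Model.exists_kernel_lift hM (isFormalTower_pi hM (Fin r))
    (fun m => LinearMap.pi fun i => g i • LinearMap.id) fun m x => funext fun i => by simp [map_smul]
  refine ⟨d, fun n hn z hz hg h0 => ?_⟩
  obtain ⟨z', hz', hg', e⟩ := hd n z hz (funext fun i => hg i)
  have hcompat : ∀ {a b : ℕ}, a ≤ b → ∀ w w' : ∀ m, M m, (∀ m, f m (w (m + 1)) = w m) →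
      (∀ m, f m (w' (m + 1)) = w' m) → w b = w' b → w a = w' a := fun {a b} hab w w' hw hw' h => by
    induction hab with
    | refl => exact h
    | @step b _ ih => exact ih (by rw [← hw b, ← hw' b, h])
  rw [← e]
  refine hk c z' hz' (fun m a ha => ?_) ((hcompat hn z' z hz' hz e).trans h0) n
  have hle : Ideal.span (Set.range g) ≤ LinearMap.ker (LinearMap.toSpanSingleton B (M m) (z' m)) :=
    Ideal.span_le.2 (by rintro _ ⟨i, rfl⟩; exact congrFun (hg' m) i)
  exact hle (hc ha)

end Algebra

variable {A : Type u} [CommRing A] {X : Scheme.{u}} [X.Over (Spec (CommRingCat.of A))]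
variable {I : Ideal A} {G : ℕᵒᵖ ⥤ X.Modules}

lemma section_eq_zero_of_germ {M : X.Modules} {V : X.Opens} (s : Γ(M, V))
    (h : ∀ (x : X) (hx : x ∈ V), M.presheaf.germ V x hx s = 0) : s = 0 := by
  refine TopCat.Presheaf.IsSheaf.section_ext M.isSheaf fun x hx => ?_
  obtain ⟨W, hxW, iU, iU', hW⟩ := TopCat.Presheaf.germ_eq M.presheaf x hx hx s 0 (by rw [h x hx, map_zero])
  exact ⟨W, iU.le, hxW, hW.trans (congrArg _ rfl)⟩

lemma germ_tr {U : X.Opens} {x : X} (hx : x ∈ U) {n m : ℕ} (h : n ≤ m) (s : Γ(G.obj (op m), U)) :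
    (G.obj (op n)).presheaf.germ U x hx (tr G U h s) =
      Modules.StalkModule.stalkMapₗ (G.map (homOfLE h).op) x ((G.obj (op m)).presheaf.germ U x hx s) :=
  (Modules.StalkModule.stalkMapₗ_germ _ hx s).symm

variable [IsNoetherianRing A] [IsNoetherian X]

/-- The level statement on one affine open. -/
def Lev (I : Ideal A) (G : ℕᵒᵖ ⥤ X.Modules) (k : ℕ) (U : X.Opens) : Prop :=
  ∀ c : ℕ, ∃ d : ℕ, ∀ (n : ℕ) (hn : k ≤ n) (t : Γ(G.obj (op (n + d)), U)),
    (∀ a ∈ I ^ c, sMap A U a • t = 0) → tr G U (hn.trans (Nat.le_add_right n d)) t = 0 →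
      tr G U (Nat.le_add_right n d) t = 0

lemma exists_lev_affine (hG : _root_.Formal.IsCohFormal I G) {U : X.Opens} (hU : IsAffineOpen U) :
    ∃ k, Lev I G k U := by
  haveI := IsLocallyNoetherian.component_noetherian (X := X) ⟨U, hU⟩
  obtain ⟨k, hk⟩ := exists_level (Uniform.isFormalTower hG hU)
  refine ⟨k, fun c => ?_⟩
  obtain ⟨r, g, hg⟩ := Submodule.fg_iff_exists_fin_generating_family.1 (IsNoetherian.noetherian (I ^ c))
  obtain ⟨d, hd⟩ := hk (fun i => sMap A U (g i)) c (by
    rw [← sIdeal_pow]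
    refine Ideal.map_le_iff_le_comap.2 fun a ha => ?_
    have ha' : a ∈ Ideal.span (Set.range g) := by
      rw [← hg] at ha
      exact ha
    have h := Ideal.mem_map_of_mem (sMap A U) ha'
    rw [Ideal.map_span, ← Set.range_comp] at h
    exact h)
  refine ⟨d, fun n hn t ht h0 => ?_⟩
  obtain ⟨z, hz, rfl⟩ := Uniform.exists_compat hG hU (n + d) t
  rw [Uniform.tr_compat z hz] at h0 ⊢
  refine hd n hn z hz (fun i => ht _ ?_) h0
  rw [← hg]
  exact Submodule.subset_span ⟨i, rfl⟩

lemma Lev.mono {k k' : ℕ} (h : k ≤ k') {U : X.Opens} (hk : Lev I G k U) : Lev I G k' U := fun c => by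
  obtain ⟨d, hd⟩ := hk c
  refine ⟨d, fun n hn t ht h0 => hd n (h.trans hn) t ht ?_⟩
  rw [← tr_tr G h (hn.trans (Nat.le_add_right n d)), h0, map_zero]

/-- A section of the limit which is torsion and dies at level `k` is zero. -/
theorem exists_torsFree (hG : _root_.Formal.IsCohFormal I G) :
    ∃ k : ℕ, ∀ (c : ℕ) (V : X.Opens) (s : Γ(limit G, V)),
      (∀ a ∈ I ^ c, sMap A V a • s = 0) → (limit.π G (op k)).app V s = 0 → s = 0 := by
  haveI : ∀ n, (G.obj (op n)).IsQuasicoherent := fun n => Sys.qcoh hG n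
  obtain ⟨k, hk⟩ := exists_uniform (X := X) (fun U k => Lev I G k U) (fun U m n h hm => hm.mono h)
    fun U hU => exists_lev_affine hG hU
  refine ⟨k, fun c V s hs h0 => LimSect.section_ext G fun n => ?_⟩
  rw [map_zero]
  have hw : ∀ {a b : ℕ} (hab : a ≤ b),
      tr G V hab ((limit.π G (op b)).app V s) = (limit.π G (op a)).app V s := fun {a b} hab =>
    app_eq (limit.w G (homOfLE hab).op) V s
  suffices hmax : (limit.π G (op (max k n))).app V s = 0 by
    rw [← hw (le_max_right k n), hmax, map_zero]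
  have hkm : k ≤ max k n := le_max_left k n
  generalize max k n = m at hkm ⊢
  refine section_eq_zero_of_germ _ fun x hx => ?_
  obtain ⟨U, hU, hxU, hlev⟩ := hk x
  obtain ⟨d, hd⟩ := hlev c
  set σ := (limit.π G (op (m + d))).app V s with hσ
  obtain ⟨f, t, hf, ht⟩ := StalkLoc.Basic.exists_smul_eq_germ hU hxU
    ((G.obj (op (m + d))).presheaf.germ V x hx σ)
  have hsm : ∀ (a : A) (N : X.Modules) (W : X.Opens) (hW : x ∈ W) (w : Γ(N, W)),
      N.presheaf.germ W x hW (sMap A W a • w) =
        Modules.StalkModule.stalkMapₗ (_root_.Formal.smulMod A N a) x (N.presheaf.germ W x hW w) :=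
    fun a N W hW w => by
      rw [Modules.StalkModule.stalkMapₗ_germ]
      rfl
  have h1 : ∀ a ∈ I ^ c, ∃ q : Γ(X, U), x ∈ X.basicOpen q ∧ q • sMap A U a • t = 0 := fun a ha => by
    refine (StalkLoc.Basic.germ_eq_zero_iff hU hxU _).1 ?_
    rw [hsm, ← ht, map_smul, ← hsm, hσ, ← (limit.π G (op (m + d))).app_smul, hs a ha, map_zero, map_zero,
      smul_zero]
  obtain ⟨r, g, hg⟩ := Submodule.fg_iff_exists_fin_generating_family.1 (IsNoetherian.noetherian (I ^ c))
  choose q hq hqt using fun i => h1 (g i) (hg.le (Submodule.subset_span ⟨i, rfl⟩))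
  have h2 : ∃ p : Γ(X, U), x ∈ X.basicOpen p ∧
      p • tr G U (hkm.trans (Nat.le_add_right m d)) t = 0 := by
    refine (StalkLoc.Basic.germ_eq_zero_iff hU hxU _).1 ?_
    rw [germ_tr, ← ht, map_smul, Modules.StalkModule.stalkMapₗ_germ]
    erw [hw (hkm.trans (Nat.le_add_right m d))]
    rw [h0, map_zero, smul_zero]
  obtain ⟨p, hp, hpt⟩ := h2
  let e : Γ(X, U) := p * ∏ i, q i
  have he : IsUnit (X.presheaf.germ U x hxU e) := by
    rw [map_mul, map_prod]
    exact ((X.mem_basicOpen p x hxU).1 hp).mul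
      (IsUnit.prod_iff.2 fun i _ => (X.mem_basicOpen (q i) x hxU).1 (hq i))
  have h3 := hd m hkm (e • t) (fun a ha => by
    have hle : Ideal.span (Set.range g) ≤
        Ideal.comap (sMap A U) (LinearMap.ker (LinearMap.toSpanSingleton Γ(X, U) _ (e • t))) := by
      refine Ideal.span_le.2 ?_
      rintro _ ⟨i, rfl⟩
      show sMap A U (g i) • e • t = 0
      rw [smul_smul, show sMap A U (g i) * e =
          (p * ∏ j ∈ Finset.univ.erase i, q j) * q i * sMap A U (g i) by
        simp only [e, ← Finset.prod_erase_mul Finset.univ q (Finset.mem_univ i)]; ring,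
        mul_smul, mul_smul, hqt i, smul_zero]
    exact hle (hg.ge ha)) (by
      rw [map_smul, show e = (∏ i, q i) * p from mul_comm _ _, mul_smul, hpt, smul_zero])
  have h4 := congrArg ((G.obj (op m)).presheaf.germ U x hxU) h3
  rw [map_smul, Modules.StalkModule.germ_smul, map_zero, he.smul_eq_zero, germ_tr, ← ht, map_smul,
    ((X.mem_basicOpen f x hxU).1 hf).smul_eq_zero, Modules.StalkModule.stalkMapₗ_germ] at h4
  erw [hw (Nat.le_add_right m d)] at h4
  exact h4

/-- The monicity form. -/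
theorem exists_torsFree_hom (hG : _root_.Formal.IsCohFormal I G) :
    ∃ k : ℕ, ∀ (c : ℕ) {Z : X.Modules} (κ : Z ⟶ limit G),
      (∀ a ∈ I ^ c, κ ≫ _root_.Formal.smulMod A (limit G) a = 0) → κ ≫ limit.π G (op k) = 0 → κ = 0 := by
  obtain ⟨k, hk⟩ := exists_torsFree hG
  refine ⟨k, fun c Z κ ha h0 => Scheme.Modules.hom_ext _ _ fun V => ConcreteCategory.ext_apply fun z => ?_⟩
  exact hk c V (κ.app V z) (fun a hac => app_eq (ha a hac) V z) (app_eq h0 V z)

end Groth.Agent.H2.FormalLimit.TorsFree
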